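import Cfsg.Agent.Lib.Chev.Coxs
import Cfsg.Agent.Lib.Chev.Perfect

/-!
# Centres and generation of the tabulated Weyl groups
-/

set_option autoImplicit false

namespace CfsgLib.Chev.Table.Tab

variable (T : Tab)

/-- Only a fundamental root and its negative are negated by their reflection. -/
def chkNegated : Bool :=
  allBelow T.rank fun i => allBelow T.nroots fun r =>
    bif T.refl i r == T.neg r then (r == T.smp i) || (r == T.neg (T.smp i)) else true

/-- The word sends each fundamental root to its negative. -/
def chkMinusOne (w : List ℕ) : Bool :=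
  allBelow T.rank fun j => CfsgLib.Chev.Table.actW T w (T.smp j) == T.neg (T.smp j)

/-- The word makes all positive roots negative, not by negation. -/
def chkTwistedLongest (w : List ℕ) : Bool :=
  (allBelow T.nroots fun r =>
    bif Nat.ble (T.nroots / 2) r then Nat.blt (CfsgLib.Chev.Table.actW T w r) (T.nroots / 2) else true) &&
  anyBelow T.rank fun j => !(CfsgLib.Chev.Table.actW T w (T.smp j) == T.neg (T.smp j))

/-- The given products of generators are the fundamental reflections. -/
def chkGenWords (gens : List (List ℕ)) (ws : List (List ℕ)) : Bool :=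
  allBelow T.rank fun i => allBelow T.rank fun j =>
    CfsgLib.Chev.Table.actW T (((ws.getD i []).map fun k => gens.getD k []).flatten) (T.smp j) ==
      T.refl i (T.smp j)

end CfsgLib.Chev.Table.Tab

namespace CfsgLib.Chev.WeylFacts

open Cfsg.Lie CfsgLib.Chev.Table

variable {D : ChevalleyDatum} {co : ℕ → ℕ → ℤ} {T : Tab}
  (hA : T.chkArrays D = true) (hC : T.chkChain D = true) (hF : Facts D co)

/-- The Coxeter element, as a word. -/
def coxWord (D : ChevalleyDatum) : List (Fin D.rank) := List.finRange D.rank

/-- An element negating every fundamental root. -/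
def IsMinusOne (hF : Facts D co) (z : weylGroup D) : Prop :=
  ∀ i : Fin D.rank, z.1 (hF.simpleFin i) = hF.negFin (hF.simpleFin i)

include hF

theorem sW_pow (l : List (Fin D.rank)) (m : ℕ) : sW D l ^ m = sW D (List.replicate m l).flatten := by
  have _ := hF
  induction m with
  | zero => simp [sW_nil]
  | succ m ih => rw [pow_succ', ih, List.replicate_succ, List.flatten_cons, sW_append]

theorem negFin_invol (s : Fin D.nroots) : hF.negFin (hF.negFin s) = s :=
  Fin.ext (hF.neg_neg s.isLt)

theorem minusOne_unique {z z' : weylGroup D} (h : IsMinusOne hF z) (h' : IsMinusOne hF z') : z = z' := by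
  obtain ⟨l, hl⟩ := hF.mem_weylGroup.1 z.2
  obtain ⟨m, hm⟩ := hF.mem_weylGroup.1 z'.2
  refine Subtype.ext ?_
  rw [hl, hm]
  exact hF.sW_ext fun i => by rw [← hl, ← hm, h i, h' i]

theorem minusOne_apply {z : weylGroup D} (h : IsMinusOne hF z) (s : Fin D.nroots) :
    z.1 s = hF.negFin s := by
  obtain ⟨l, hl⟩ := hF.mem_weylGroup.1 z.2
  rw [hl]
  have key : ∀ s : Fin D.nroots, D.nroots / 2 ≤ s.val → sW D l s = hF.negFin s := fun s hs =>
    Fin.ext (hF.root_ext (sW D l s).isLt (hF.neg_lt s.isLt) fun j hj => by
      rw [hF.co_sW_expand l hs hj,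
        show co (hF.negFin s).val j = -co s.val j from hF.co_neg s.val s.isLt j hj]
      have e : ∀ q : Fin D.rank, co (sW D l (hF.simpleFin q)).val j = if q.val = j then -1 else 0 := by
        intro q
        rw [← hl, h q, show co (hF.negFin (hF.simpleFin q)).val j = -co (D.simple q.val) j from
          hF.co_neg _ (hF.simple_lt' q.isLt) j hj, hF.co_simple q.val q.isLt j hj]
        split_ifs <;> rfl
      simp only [e]
      rw [Finset.sum_eq_single (⟨j, hj⟩ : Fin D.rank)]
      · simp
      · intro q _ hq
        rw [if_neg fun e' => hq (Fin.ext e'), mul_zero]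
      · simp)
  by_cases hp : D.nroots / 2 ≤ s.val
  · exact key s hp
  · have := key (hF.negFin s) ((hF.negFin_pos s).2 (by omega))
    rw [hF.sW_neg, negFin_invol hF] at this
    rw [← negFin_invol hF (sW D l s), this]

theorem minusOne_central {z : weylGroup D} (h : IsMinusOne hF z) :
    z ∈ Subgroup.center (weylGroup D) := by
  refine Subgroup.mem_center_iff.2 fun g => Subtype.ext (Equiv.ext fun s => ?_)
  obtain ⟨l, hl⟩ := hF.mem_weylGroup.1 g.2
  show g.1 (z.1 s) = z.1 (g.1 s)
  rw [minusOne_apply hF h, minusOne_apply hF h, hl, hF.sW_neg]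

theorem minusOne_ne_one {z : weylGroup D} (h : IsMinusOne hF z) : z ≠ 1 := by
  rintro rfl
  have h0 := congrArg Fin.val (h ⟨0, hF.rank_pos⟩)
  exact hF.neg_ne (hF.simple_lt' hF.rank_pos) h0.symm

include hA hC

omit hC in
theorem refl_negated (hneg : ∀ i : Fin D.rank, ∀ r : Fin D.nroots, sP D i r = hF.negFin r →
    r = hF.simpleFin i ∨ r = hF.negFin (hF.simpleFin i)) (hlink : Linked D) {z : weylGroup D}
    (hz : z ∈ Subgroup.center (weylGroup D)) : z = 1 ∨ IsMinusOne hF z := by
  have _ := hA
  obtain ⟨l, hl⟩ := hF.mem_weylGroup.1 z.2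
  have hcomm : ∀ (i : Fin D.rank) (s : Fin D.nroots), sP D i (sW D l s) = sW D l (sP D i s) := by
    intro i s
    have := congrArg (fun g : weylGroup D => g.1 s) (Subgroup.mem_center_iff.1 hz (wS D i))
    simpa [wS, hl] using this
  set ε : Fin D.rank → ℤ := fun i => if sW D l (hF.simpleFin i) = hF.simpleFin i then 1 else -1 with hε
  have hsign : ∀ i, sW D l (hF.simpleFin i) = hF.simpleFin i ∨
      sW D l (hF.simpleFin i) = hF.negFin (hF.simpleFin i) := fun i =>
    hneg i _ (by rw [hcomm, hF.sP_simple, hF.sW_neg])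
  have hco : ∀ (q : Fin D.rank) (j : ℕ), j < D.rank →
      co (sW D l (hF.simpleFin q)).val j = if q.val = j then ε q else 0 := by
    intro q j hj
    rcases hsign q with h | h
    · simp only [hε, if_pos h]
      rw [h]
      exact hF.co_simple q.val q.isLt j hj
    · have hne : sW D l (hF.simpleFin q) ≠ hF.simpleFin q := by
        rw [h]; exact fun e => hF.neg_ne (hF.simple_lt' q.isLt) (congrArg Fin.val e)
      simp only [hε, if_neg hne]
      rw [h, show co (hF.negFin (hF.simpleFin q)).val j = -co (D.simple q.val) j from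
        hF.co_neg _ (hF.simple_lt' q.isLt) j hj, hF.co_simple q.val q.isLt j hj]
      split_ifs <;> rfl
  have hadj : ∀ i j : Fin D.rank, i ≠ j → D.cartan i.val (D.simple j.val) ≠ 0 → ε i = ε j := by
    intro i j hij hne
    have hji : ¬ j.val = i.val := fun e => hij (Fin.ext e.symm)
    set r := sP D i (hF.simpleFin j) with hr
    have hp : D.nroots / 2 ≤ r.val := by
      rw [hr, hF.sP_val]
      exact hF.refl_pos i.val i.isLt _ (hF.simple_lt' j.isLt) (hF.simple_lt j.val j.isLt).1
        fun e => hji (hF.simple_inj j.isLt i.isLt e)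
    have hcr : ∀ q : ℕ, q < D.rank → co r.val q =
        (if j.val = q then 1 else 0) - if i.val = q then D.cartan i.val (D.simple j.val) else 0 := by
      intro q hq
      rw [hr, hF.sP_val]
      rw [show (hF.simpleFin j).val = D.simple j.val from rfl,
        hF.co_refl i.val i.isLt _ (hF.simple_lt' j.isLt) q hq, hF.co_simple j.val j.isLt q hq]
    have e1 : co (sW D l r).val i.val = co r.val i.val * ε i := by
      rw [hF.co_sW_expand l hp i.isLt, Finset.sum_eq_single i]
      · rw [hco i i.val i.isLt, if_pos rfl]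
      · intro q _ hq
        rw [hco q i.val i.isLt, if_neg fun e => hq (Fin.ext e), mul_zero]
      · simp
    have e2 : co (sW D l r).val i.val = ε j * co r.val i.val := by
      rw [hr, ← hcomm]
      rcases hsign j with h | h
      · simp only [hε, if_pos h]
        rw [h, one_mul]
      · have hne' : sW D l (hF.simpleFin j) ≠ hF.simpleFin j := by
          rw [h]; exact fun e => hF.neg_ne (hF.simple_lt' j.isLt) (congrArg Fin.val e)
        simp only [hε, if_neg hne']
        rw [h, hF.sP_neg, show co (hF.negFin (sP D i (hF.simpleFin j))).val i.val =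
          -co (sP D i (hF.simpleFin j)).val i.val from hF.co_neg _ (sP D i _).isLt _ i.isLt]
        ring
    have hk : co r.val i.val ≠ 0 := by
      rw [hcr i.val i.isLt, if_neg hji, if_pos rfl]
      omega
    rw [mul_comm] at e1
    exact mul_right_cancel₀ hk (e1.symm.trans e2)
  obtain ⟨f, hf⟩ := hlink
  have hall : ∀ (n : ℕ) (i : Fin D.rank), f i.val = n → ε i = ε ⟨0, hF.rank_pos⟩ := by
    intro n
    induction n using Nat.strong_induction_on with
    | _ n ih =>
      intro i hi
      rcases Nat.eq_zero_or_pos i.val with h0 | h0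
      · rw [show i = ⟨0, hF.rank_pos⟩ from Fin.ext h0]
      obtain ⟨j, hj, hlt, hne⟩ := hf i.val i.isLt h0
      have hij : i ≠ ⟨j, hj⟩ := fun e => by
        have := congrArg Fin.val e
        simp only at this
        rw [this] at hlt
        omega
      rw [hadj i ⟨j, hj⟩ hij hne]
      exact ih (f j) (hi ▸ hlt) ⟨j, hj⟩ rfl
  by_cases h0 : sW D l (hF.simpleFin ⟨0, hF.rank_pos⟩) = hF.simpleFin ⟨0, hF.rank_pos⟩
  · left
    refine Subtype.ext ?_
    show z.1 = 1
    rw [hl, ← sW_nil]
    refine hF.sW_ext fun i => ?_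
    have e := hall _ i rfl
    rw [sW_nil, Equiv.Perm.one_apply]
    by_contra hc
    simp only [hε, if_neg hc, if_pos h0] at e
    omega
  · right
    intro i
    have e := hall _ i rfl
    rw [hl]
    rcases hsign i with h | h
    · simp only [hε, if_pos h, if_neg h0] at e
      omega
    · exact h

theorem negated_of_chk (h : T.chkNegated = true) (i : Fin D.rank) (r : Fin D.nroots)
    (hr : sP D i r = hF.negFin r) : r = hF.simpleFin i ∨ r = hF.negFin (hF.simpleFin i) := by
  have h1 := allBelow_spec (allBelow_spec h i.val (rank_eq hA ▸ i.isLt)) r.val (nroots_eq hA ▸ r.isLt)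
  have e := congrArg Fin.val hr
  rw [hF.sP_val, reflect_eq hA hC i.isLt r.isLt] at e
  change _ = D.neg r.val at e
  rw [neg_eq hA r.isLt] at e
  rw [e, beq_self_eq_true, cond_true, Bool.or_eq_true, beq_iff_eq, beq_iff_eq] at h1
  have hs : T.smp i.val = D.simple i.val := (simple_eq hA i.isLt).symm
  rw [hs] at h1
  rcases h1 with h1 | h1
  · exact Or.inl (Fin.ext h1)
  · refine Or.inr (Fin.ext ?_)
    show _ = D.neg (D.simple i.val)
    rw [neg_eq hA (hF.simple_lt' i.isLt), ← h1]

theorem center_minusOne (hneg : T.chkNegated = true) (hlink : Linked D) {m : ℕ}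
    (hm : T.chkMinusOne ((List.replicate m (coxWord D)).flatten.map Fin.val) = true) :
    Nat.card (Subgroup.center (weylGroup D)) = 2 ∧
      Subgroup.center (weylGroup D) ≤ Subgroup.zpowers (Exch.prodW (wS D) (coxWord D)) := by
  set c := Exch.prodW (wS D) (coxWord D)
  have hz : IsMinusOne hF (c ^ m) := by
    intro i
    refine Fin.ext ?_
    rw [SubmonoidClass.coe_pow, wS_prod, sW_pow hF, actW_eq hA hC hF]
    have := allBelow_spec hm i.val (rank_eq hA ▸ i.isLt)
    rw [beq_iff_eq, ← simple_eq hA i.isLt, ← neg_eq hA (hF.simple_lt' i.isLt)] at this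
    exact this
  have hcases : ∀ z ∈ Subgroup.center (weylGroup D), z = 1 ∨ z = c ^ m := fun z h =>
    (refl_negated hA hF (negated_of_chk hA hC hF hneg) hlink h).imp_right
      fun h' => minusOne_unique hF h' hz
  refine ⟨?_, fun z h => ?_⟩
  · rw [Nat.card_eq_two_iff]
    refine ⟨1, ⟨c ^ m, minusOne_central hF hz⟩,
      fun e => minusOne_ne_one hF hz (congrArg Subtype.val e).symm, ?_⟩
    refine Set.eq_univ_of_forall fun z => ?_
    rcases hcases z.1 z.2 with e | e
    · exact Or.inl (Subtype.ext e)
    · exact Or.inr (Subtype.ext e)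
  · rcases hcases z h with rfl | rfl
    · exact one_mem _
    · exact Subgroup.pow_mem _ (Subgroup.mem_zpowers c) m

theorem center_trivial (hneg : T.chkNegated = true) (hlink : Linked D) {w : List (Fin D.rank)}
    (hw : T.chkTwistedLongest (w.map Fin.val) = true) :
    Nat.card (Subgroup.center (weylGroup D)) = 1 ∧
      Subgroup.center (weylGroup D) ≤ Subgroup.zpowers (Exch.prodW (wS D) (coxWord D)) := by
  simp only [Tab.chkTwistedLongest, Bool.and_eq_true] at hw
  have hcases : ∀ z ∈ Subgroup.center (weylGroup D), z = 1 := by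
    intro z h
    rcases refl_negated hA hF (negated_of_chk hA hC hF hneg) hlink h with e | e
    · exact e
    exfalso
    obtain ⟨l, hl⟩ := hF.mem_weylGroup.1 z.2
    have hone : sW D (l ++ w) = 1 := by
      refine hF.eq_one_of_pos _ fun r hr => ?_
      rw [sW_append, Equiv.Perm.mul_apply, ← hl, minusOne_apply hF e, hF.negFin_pos]
      have := allBelow_spec hw.1 r.val (nroots_eq hA ▸ r.isLt)
      rw [← nroots_eq hA, (show Nat.ble (D.nroots / 2) r.val = true by rw [Nat.ble_eq]; exact hr), cond_true, Nat.blt_eq, ← actW_eq hA hC hF] at this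
      exact this
    obtain ⟨j, hj, hne⟩ := anyBelow_spec hw.2
    have hj' : j < D.rank := (rank_eq hA).symm ▸ hj
    rw [Bool.not_eq_true', ← Bool.not_eq_true] at hne
    apply hne
    rw [beq_iff_eq, ← simple_eq hA hj', ← neg_eq hA (hF.simple_lt' hj')]
    have e2 := congrArg (fun σ : Equiv.Perm (Fin D.nroots) => σ (hF.simpleFin ⟨j, hj'⟩)) hone
    simp only [sW_append, Equiv.Perm.mul_apply, ← hl, minusOne_apply hF e, Equiv.Perm.one_apply] at e2
    have e3 := congrArg hF.negFin e2
    rw [negFin_invol hF] at e3
    have e4 := congrArg Fin.val e3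
    rw [actW_eq hA hC hF] at e4
    exact e4
  haveI : Subsingleton (Subgroup.center (weylGroup D)) :=
    ⟨fun a b => Subtype.ext ((hcases a.1 a.2).trans (hcases b.1 b.2).symm)⟩
  exact ⟨Nat.card_of_subsingleton 1, fun z h => by rw [hcases z h]; exact one_mem _⟩

theorem gen_of_words {gens : List (List (Fin D.rank))} {ws : List (List ℕ)}
    (h : T.chkGenWords (gens.map (List.map Fin.val)) ws = true) :
    Subgroup.closure {x | x ∈ gens.map (Exch.prodW (wS D))} = (⊤ : Subgroup (weylGroup D)) := by
  set S := Subgroup.closure {x | x ∈ gens.map (Exch.prodW (wS D))}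
  have hgen : ∀ i : Fin D.rank, wS D i ∈ S := by
    intro i
    set w := ws.getD i.val []
    have hmem : Exch.prodW (wS D) (w.map fun k => gens.getD k []).flatten ∈ S := by
      induction w with
      | nil => simp [Exch.prodW, one_mem]
      | cons k w ih =>
        rw [List.map_cons, List.flatten_cons, Exch.prodW_append]
        refine mul_mem ?_ ih
        rcases Nat.lt_or_ge k gens.length with hk | hk
        · rw [List.getD_eq_getElem _ _ hk]
          exact Subgroup.subset_closure (List.mem_map.2 ⟨_, List.getElem_mem hk, rfl⟩)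
        · rw [List.getD_eq_default _ _ hk]
          simp [Exch.prodW, one_mem]
    suffices e : wS D i = Exch.prodW (wS D) (w.map fun k => gens.getD k []).flatten by
      rw [e]; exact hmem
    refine Subtype.ext ?_
    rw [wS_prod, show (wS D i).1 = sW D [i] by rw [sW_cons, sW_nil, mul_one]; rfl]
    refine hF.sW_ext fun j => Fin.ext ?_
    have h1 := allBelow_spec (allBelow_spec h i.val (rank_eq hA ▸ i.isLt)) j.val (rank_eq hA ▸ j.isLt)
    rw [beq_iff_eq, ← simple_eq hA j.isLt] at h1
    rw [sW_cons, sW_nil, mul_one, hF.sP_val, show (hF.simpleFin j).val = D.simple j.val from rfl,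
      reflect_eq hA hC i.isLt (hF.simple_lt' j.isLt), actW_eq hA hC hF]
    refine (Eq.trans ?_ h1).symm
    congr 1
    rw [List.map_flatten, List.map_map]
    refine congrArg List.flatten (List.map_congr_left fun k _ => ?_)
    exact (List.getD_map gens [] (List.map (Fin.val : Fin D.rank → ℕ))).symm
  rw [eq_top_iff]
  rintro ⟨σ, hσ⟩ -
  obtain ⟨l, rfl⟩ := hF.mem_weylGroup.1 hσ
  rw [show (⟨sW D l, hσ⟩ : weylGroup D) = Exch.prodW (wS D) l from Subtype.ext (wS_prod l).symm]
  exact Subgroup.list_prod_mem _ fun g hg => by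
    obtain ⟨i, -, rfl⟩ := List.mem_map.1 hg
    exact hgen i

end CfsgLib.Chev.WeylFacts
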