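import Cfsg.Agent.Lib.KnownSimple.WeylGroups.Basic

/-!
# Centre and small generating sets of the exceptional Coxeter groups
-/

set_option autoImplicit false
set_option maxRecDepth 20000

namespace CfsgLib.Chev.WeylFacts

open Cfsg.Lie CfsgLib.Chev.Table

/-- The centre has order `k` and lies in the group generated by the Coxeter element. -/
def CentreData {n : ℕ} (M : CoxeterMatrix (Fin n)) (k : ℕ) : Prop :=
  Nat.card (Subgroup.center M.Group) = k ∧
    Subgroup.center M.Group ≤ Subgroup.zpowers ((List.finRange n).map M.simple).prod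

/-- The Coxeter element and `k` distinct simple reflections generate. -/
def GenData {n : ℕ} (M : CoxeterMatrix (Fin n)) (k : ℕ) : Prop :=
  ∃ T : Finset M.Group, T.card = k ∧ (∀ t ∈ T, ∃ (g : M.Group) (i : Fin n), t = g * M.simple i * g⁻¹) ∧
    Subgroup.closure (({((List.finRange n).map M.simple).prod} : Set M.Group) ∪ ↑T) = ⊤

theorem map_prodW {D : ChevalleyDatum} {n : ℕ} {M : CoxeterMatrix (Fin n)} (hn : D.rank = n)
    {e : weylGroup D ≃* M.Group} (he : ∀ (i : Fin D.rank) (j : Fin n), i.val = j.val → e (wS D i) = M.simple j) :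
    e (Exch.prodW (wS D) (coxWord D)) = ((List.finRange n).map M.simple).prod := by
  subst hn
  rw [Exch.prodW, map_list_prod, List.map_map]
  exact congrArg List.prod (List.map_congr_left fun i _ => he i i rfl)

theorem centreData_of {D : ChevalleyDatum} {n : ℕ} {M : CoxeterMatrix (Fin n)} {N h k : ℕ}
    (hn : D.rank = n) (hc : CoxData D n M N h)
    (hd : Nat.card (Subgroup.center (weylGroup D)) = k ∧
      Subgroup.center (weylGroup D) ≤ Subgroup.zpowers (Exch.prodW (wS D) (coxWord D))) :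
    CentreData M k := by
  obtain ⟨e, he⟩ := hc.sys
  refine ⟨(Nat.card_congr (Subgroup.centerCongr e).toEquiv).symm.trans hd.1, fun z hz => ?_⟩
  have hz' : e.symm z ∈ Subgroup.center (weylGroup D) := by
    rw [Subgroup.mem_center_iff] at hz ⊢
    intro g
    apply e.injective
    simp only [map_mul, MulEquiv.apply_symm_apply]
    exact hz _
  obtain ⟨m, hm⟩ := Subgroup.mem_zpowers_iff.1 (hd.2 hz')
  refine Subgroup.mem_zpowers_iff.2 ⟨m, ?_⟩
  rw [← map_prodW hn he, ← map_zpow, hm, MulEquiv.apply_symm_apply]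

theorem genData_of {D : ChevalleyDatum} {n : ℕ} {M : CoxeterMatrix (Fin n)} {N h : ℕ}
    (hn : D.rank = n) (hF : ∃ co, Facts D co) (hc : CoxData D n M N h) (ts : Finset (Fin D.rank))
    (hd : Subgroup.closure ({Exch.prodW (wS D) (coxWord D)} ∪ wS D '' ↑ts) = ⊤) :
    GenData M ts.card := by
  classical
  obtain ⟨co, hF⟩ := hF
  obtain ⟨e, he⟩ := hc.sys
  refine ⟨ts.image fun i => e (wS D i), Finset.card_image_of_injective _ ?_, ?_, ?_⟩
  · intro i j hij
    exact hF.sP_injective (congrArg Subtype.val (e.injective hij))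
  · intro t ht
    obtain ⟨i, -, rfl⟩ := Finset.mem_image.1 ht
    exact ⟨1, ⟨i.val, hn ▸ i.isLt⟩, by rw [one_mul, inv_one, mul_one]; exact he i _ rfl⟩
  · have hs : Function.Surjective e.toMonoidHom := e.surjective
    rw [← Subgroup.map_top_of_surjective e.toMonoidHom hs, ← hd, MonoidHom.map_closure,
      Set.image_union, Set.image_singleton, Finset.coe_image, Set.image_image]
    rw [show e.toMonoidHom (Exch.prodW (wS D) (coxWord D)) = ((List.finRange n).map M.simple).prod from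
      map_prodW hn he]
    rfl

theorem centre_G2 : CentreData CoxeterMatrix.G₂ 2 :=
  centreData_of (D := chevG2) rfl cox_G2 (center_minusOne DataG2.chk_arrays DataG2.chk_chain DataG2.facts
    (by decide +kernel) linked_G2 (m := 3) (by decide +kernel))

theorem gen_G2 : GenData CoxeterMatrix.G₂ 1 := by
  have h := gen_of_words (D := chevG2) DataG2.chk_arrays DataG2.chk_chain DataG2.facts
    (gens := [coxWord chevG2, [⟨0, by decide +kernel⟩]])
    (ws := [[1], [1, 0]]) (by decide +kernel)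
  refine genData_of (D := chevG2) rfl ⟨_, DataG2.facts⟩ cox_G2 {⟨0, by decide +kernel⟩} ?_
  refine eq_top_iff.2 (h.ge.trans (Subgroup.closure_mono ?_))
  intro x hx
  simp only [List.map_cons, List.map_nil, List.mem_cons, List.not_mem_nil, or_false,
    Set.mem_setOf_eq] at hx
  rcases hx with rfl | rfl
  · exact Or.inl rfl
  · exact Or.inr ⟨⟨0, by decide +kernel⟩, by simp, by simp [Exch.prodW]⟩

theorem centre_B2 : CentreData (CoxeterMatrix.B 2) 2 :=
  centreData_of (D := chevB2) rfl cox_B2 (center_minusOne DataB2.chk_arrays DataB2.chk_chain DataB2.facts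
    (by decide +kernel) linked_B2 (m := 2) (by decide +kernel))

theorem gen_B2 : GenData (CoxeterMatrix.B 2) 1 := by
  have h := gen_of_words (D := chevB2) DataB2.chk_arrays DataB2.chk_chain DataB2.facts
    (gens := [coxWord chevB2, [⟨0, by decide +kernel⟩]])
    (ws := [[1], [1, 0]]) (by decide +kernel)
  refine genData_of (D := chevB2) rfl ⟨_, DataB2.facts⟩ cox_B2 {⟨0, by decide +kernel⟩} ?_
  refine eq_top_iff.2 (h.ge.trans (Subgroup.closure_mono ?_))
  intro x hx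
  simp only [List.map_cons, List.map_nil, List.mem_cons, List.not_mem_nil, or_false,
    Set.mem_setOf_eq] at hx
  rcases hx with rfl | rfl
  · exact Or.inl rfl
  · exact Or.inr ⟨⟨0, by decide +kernel⟩, by simp, by simp [Exch.prodW]⟩

theorem centre_D4 : CentreData Cfsg.Lie.coxeterD4 2 :=
  centreData_of (D := chevD4) rfl cox_D4 (center_minusOne DataD4.chk_arrays DataD4.chk_chain DataD4.facts
    (by decide +kernel) linked_D4 (m := 3) (by decide +kernel))

theorem gen_D4 : GenData Cfsg.Lie.coxeterD4 2 := by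
  have h := gen_of_words (D := chevD4) DataD4.chk_arrays DataD4.chk_chain DataD4.facts
    (gens := [coxWord chevD4, [⟨0, by decide +kernel⟩], [⟨2, by decide +kernel⟩]])
    (ws := [[1], [0, 1, 0, 0, 0, 0, 0], [2], [0, 0, 1, 0, 1, 0, 0, 2]]) (by decide +kernel)
  refine genData_of (D := chevD4) rfl ⟨_, DataD4.facts⟩ cox_D4 {⟨0, by decide +kernel⟩, ⟨2, by decide +kernel⟩} ?_
  refine eq_top_iff.2 (h.ge.trans (Subgroup.closure_mono ?_))
  intro x hx
  simp only [List.map_cons, List.map_nil, List.mem_cons, List.not_mem_nil, or_false,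
    Set.mem_setOf_eq] at hx
  rcases hx with rfl | rfl | rfl
  · exact Or.inl rfl
  · exact Or.inr ⟨⟨0, by decide +kernel⟩, by simp, by simp [Exch.prodW]⟩
  · exact Or.inr ⟨⟨2, by decide +kernel⟩, by simp, by simp [Exch.prodW]⟩

theorem centre_F4 : CentreData CoxeterMatrix.F₄ 2 :=
  centreData_of (D := chevF4) rfl cox_F4 (center_minusOne DataF4.chk_arrays DataF4.chk_chain DataF4.facts
    (by decide +kernel) linked_F4 (m := 6) (by decide +kernel))

theorem gen_F4 : GenData CoxeterMatrix.F₄ 2 := by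
  have h := gen_of_words (D := chevF4) DataF4.chk_arrays DataF4.chk_chain DataF4.facts
    (gens := [coxWord chevF4, [⟨0, by decide +kernel⟩], [⟨2, by decide +kernel⟩]])
    (ws := [[1], [0, 0, 1, 0, 1, 0, 1, 0, 1, 0, 1], [2], [0, 1, 0, 1, 2, 0, 2, 1, 0, 2, 1]]) (by decide +kernel)
  refine genData_of (D := chevF4) rfl ⟨_, DataF4.facts⟩ cox_F4 {⟨0, by decide +kernel⟩, ⟨2, by decide +kernel⟩} ?_
  refine eq_top_iff.2 (h.ge.trans (Subgroup.closure_mono ?_))
  intro x hx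
  simp only [List.map_cons, List.map_nil, List.mem_cons, List.not_mem_nil, or_false,
    Set.mem_setOf_eq] at hx
  rcases hx with rfl | rfl | rfl
  · exact Or.inl rfl
  · exact Or.inr ⟨⟨0, by decide +kernel⟩, by simp, by simp [Exch.prodW]⟩
  · exact Or.inr ⟨⟨2, by decide +kernel⟩, by simp, by simp [Exch.prodW]⟩

theorem centre_E6 : CentreData CoxeterMatrix.E₆ 1 :=
  centreData_of (D := chevE6) rfl cox_E6 (center_trivial DataE6.chk_arrays DataE6.chk_chain DataE6.facts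
    (by decide +kernel) linked_E6
    (w := ([0, 2, 3, 4, 5, 1, 3, 4, 2, 3, 0, 2, 1, 3, 4, 5, 1, 3, 4, 2, 3, 0, 2, 1, 3, 4, 2, 3, 0, 2, 1, 3, 0, 2, 1, 0] : List (Fin 6))) (by decide +kernel))

theorem gen_E6 : GenData CoxeterMatrix.E₆ 1 := by
  have h := gen_of_words (D := chevE6) DataE6.chk_arrays DataE6.chk_chain DataE6.facts
    (gens := [coxWord chevE6, [⟨0, by decide +kernel⟩]])
    (ws := [[1], [0, 1, 0, 0, 0, 0, 1, 0, 1, 0, 1, 0, 0, 0, 0, 1], [0, 1, 0, 0, 0, 0, 0, 0, 0, 0, 0, 0, 0], [0, 0, 0, 0, 0, 1, 0, 0, 0, 0, 0, 0, 0], [0, 0, 0, 0, 0, 0, 1, 0, 0, 0, 0, 0, 0], [0, 0, 0, 0, 0, 0, 0, 1, 0, 0, 0, 0, 0]]) (by decide +kernel)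
  refine genData_of (D := chevE6) rfl ⟨_, DataE6.facts⟩ cox_E6 {⟨0, by decide +kernel⟩} ?_
  refine eq_top_iff.2 (h.ge.trans (Subgroup.closure_mono ?_))
  intro x hx
  simp only [List.map_cons, List.map_nil, List.mem_cons, List.not_mem_nil, or_false,
    Set.mem_setOf_eq] at hx
  rcases hx with rfl | rfl
  · exact Or.inl rfl
  · exact Or.inr ⟨⟨0, by decide +kernel⟩, by simp, by simp [Exch.prodW]⟩

theorem centre_E7 : CentreData CoxeterMatrix.E₇ 2 :=
  centreData_of (D := chevE7) rfl cox_E7 (center_minusOne DataE7.chk_arrays DataE7.chk_chain DataE7.facts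
    (by decide +kernel) linked_E7 (m := 9) (by decide +kernel))

theorem gen_E7 : GenData CoxeterMatrix.E₇ 1 := by
  have h := gen_of_words (D := chevE7) DataE7.chk_arrays DataE7.chk_chain DataE7.facts
    (gens := [coxWord chevE7, [⟨1, by decide +kernel⟩]])
    (ws := [[0, 0, 0, 1, 0, 0, 1, 0, 0, 0, 0, 0, 0, 0, 1, 0, 0, 0, 0, 0, 0], [1], [0, 0, 0, 0, 1, 0, 0, 1, 0, 0, 0, 0, 0, 0, 0, 1, 0, 0, 0, 0, 0], [1, 0, 0, 0, 0, 0, 1, 0, 0, 1, 0, 0, 1, 0, 0, 0, 0, 0, 1, 0, 0, 0, 0], [0, 1, 0, 0, 0, 0, 0, 1, 0, 0, 1, 0, 0, 1, 0, 0, 0, 0, 0, 1, 0, 0, 0], [0, 0, 1, 0, 0, 0, 0, 0, 1, 0, 0, 1, 0, 0, 1, 0, 0, 0, 0, 0, 1, 0, 0], [0, 0, 0, 1, 0, 0, 0, 0, 0, 1, 0, 0, 1, 0, 0, 1, 0, 0, 0, 0, 0, 1, 0]]) (by decide +kernel)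
  refine genData_of (D := chevE7) rfl ⟨_, DataE7.facts⟩ cox_E7 {⟨1, by decide +kernel⟩} ?_
  refine eq_top_iff.2 (h.ge.trans (Subgroup.closure_mono ?_))
  intro x hx
  simp only [List.map_cons, List.map_nil, List.mem_cons, List.not_mem_nil, or_false,
    Set.mem_setOf_eq] at hx
  rcases hx with rfl | rfl
  · exact Or.inl rfl
  · exact Or.inr ⟨⟨1, by decide +kernel⟩, by simp, by simp [Exch.prodW]⟩

theorem centre_E8 : CentreData CoxeterMatrix.E₈ 2 :=
  centreData_of (D := chevE8) rfl cox_E8 (center_minusOne DataE8.chk_arrays DataE8.chk_chain DataE8.facts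
    (by decide +kernel) linked_E8 (m := 15) (by decide +kernel))

theorem gen_E8 : GenData CoxeterMatrix.E₈ 1 := by
  have h := gen_of_words (D := chevE8) DataE8.chk_arrays DataE8.chk_chain DataE8.facts
    (gens := [coxWord chevE8, [⟨0, by decide +kernel⟩]])
    (ws := [[1], [0, 0, 0, 0, 1, 0, 0, 0, 0, 0, 0, 0, 0, 1, 0, 0, 0, 0, 0, 0, 0, 1, 0, 0, 0, 0, 0, 0, 0, 0, 0, 0, 0], [0, 0, 1, 0, 1, 0, 1, 0, 1, 0, 1, 0, 1, 0, 1, 0, 1, 0, 1, 0, 1, 0, 1], [0, 0, 0, 0, 1, 0, 0, 0, 1, 0, 0, 0, 0, 0, 0, 0, 0, 0, 0, 0, 0, 1, 0, 0, 0, 0, 0, 0, 0, 0, 0, 0, 0], [0, 0, 0, 0, 0, 1, 0, 0, 0, 1, 0, 0, 0, 0, 0, 0, 0, 0, 0, 0, 0, 0, 1, 0, 0, 0, 0, 0, 0, 0, 0, 0, 0], [0, 0, 0, 0, 0, 0, 1, 0, 0, 0, 1, 0, 0, 0, 0, 0, 0, 0, 0, 0, 0, 0, 0, 1, 0, 0, 0, 0, 0, 0, 0, 0, 0], [0, 0, 0, 0, 0, 0, 0, 1, 0, 0, 0, 1, 0, 0, 0, 0, 0, 0, 0, 0, 0, 0, 0, 0, 1, 0, 0, 0, 0, 0, 0, 0, 0], [0, 0, 0, 0, 0, 0, 0, 0, 1, 0, 0, 0, 1, 0, 0, 0, 0, 0, 0, 0, 0, 0, 0, 0, 0, 1, 0, 0,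 0, 0, 0, 0, 0]]) (by decide +kernel)
  refine genData_of (D := chevE8) rfl ⟨_, DataE8.facts⟩ cox_E8 {⟨0, by decide +kernel⟩} ?_
  refine eq_top_iff.2 (h.ge.trans (Subgroup.closure_mono ?_))
  intro x hx
  simp only [List.map_cons, List.map_nil, List.mem_cons, List.not_mem_nil, or_false,
    Set.mem_setOf_eq] at hx
  rcases hx with rfl | rfl
  · exact Or.inl rfl
  · exact Or.inr ⟨⟨0, by decide +kernel⟩, by simp, by simp [Exch.prodW]⟩

end CfsgLib.Chev.WeylFacts
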